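import Mathlib.LinearAlgebra.Finsupp.LinearCombination
import Mathlib.LinearAlgebra.Quotient.Basic
import Mathlib.Tactic.Abel

/-!
A symmetric 2-cocycle on an abelian group defines an abelian extension; this computes the low degree
homology of the complex of symmetric cocycles.
-/

universe u v

namespace Groth.Agent.SymmCocycle

variable {P : Type u} {M : Type v} [AddCommGroup P] [AddCommGroup M]

/-- A normalised symmetric cocycle. -/
structure Cocycle (f : P → P → M) : Prop where
  symm : ∀ p q, f p q = f q p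
  assoc : ∀ p q r, f (p + q) r + f p q = f p (q + r) + f q r

/-- The extension defined by a cocycle. -/
@[ext]
structure Ext' (f : P → P → M) (_h : Cocycle f) : Type max u v where
  m : M
  p : P

variable {f : P → P → M} {h : Cocycle f}

theorem Cocycle.left_zero (h : Cocycle f) (p : P) : f 0 p = f 0 0 := by
  have := h.assoc 0 0 p
  simp only [zero_add] at this
  exact (add_left_cancel this).symm

instance : Add (Ext' f h) := ⟨fun x y => ⟨x.m + y.m + f x.p y.p, x.p + y.p⟩⟩
instance : Zero (Ext' f h) := ⟨⟨- f 0 0, 0⟩⟩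
instance : Neg (Ext' f h) := ⟨fun x => ⟨- x.m - f (-x.p) x.p - f 0 0, -x.p⟩⟩

@[simp] theorem add_m (x y : Ext' f h) : (x + y).m = x.m + y.m + f x.p y.p := rfl
@[simp] theorem add_p (x y : Ext' f h) : (x + y).p = x.p + y.p := rfl
@[simp] theorem zero_m : (0 : Ext' f h).m = - f 0 0 := rfl
@[simp] theorem zero_p : (0 : Ext' f h).p = 0 := rfl
@[simp] theorem neg_m (x : Ext' f h) : (-x).m = - x.m - f (-x.p) x.p - f 0 0 := rfl
@[simp] theorem neg_p (x : Ext' f h) : (-x).p = -x.p := rfl

instance : AddCommGroup (Ext' f h) where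
  add_assoc x y z := by
    ext
    · simp only [add_m, add_p]
      calc _ = x.m + y.m + z.m + (f (x.p + y.p) z.p + f x.p y.p) := by abel
        _ = _ := by rw [h.assoc]; abel
    · simp [add_assoc]
  zero_add x := by
    ext
    · simp [h.left_zero x.p]
    · simp
  add_zero x := by
    ext
    · simp [h.symm x.p 0, h.left_zero x.p]
    · simp
  add_comm x y := by
    ext
    · simp [h.symm x.p y.p]; abel
    · simp [add_comm]
  neg_add_cancel x := by
    ext
    · simp; abel
    · simp
  nsmul := nsmulRec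
  zsmul := zsmulRec

/-- The inclusion of the coefficients. -/
def inl : M →+ Ext' f h where
  toFun m := ⟨m - f 0 0, 0⟩
  map_zero' := by ext <;> simp
  map_add' a b := by
    ext
    · simp; abel
    · simp

theorem inl_injective : Function.Injective (inl : M →+ Ext' f h) := fun a b e => by
  simpa using congrArg Ext'.m (show (⟨a - f 0 0, 0⟩ : Ext' f h) = ⟨b - f 0 0, 0⟩ from e)

theorem sub_eq (p q : P) : (⟨0, p + q⟩ : Ext' f h) - ⟨0, p⟩ - ⟨0, q⟩ = - inl (f p q) := by
  have e : (⟨0, p⟩ : Ext' f h) + ⟨0, q⟩ = inl (f p q) + ⟨0, p + q⟩ := by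
    ext
    · show 0 + 0 + f p q = (f p q - f 0 0) + 0 + f 0 (p + q)
      rw [h.left_zero (p + q)]; abel
    · show p + q = 0 + (p + q)
      rw [zero_add]
  rw [eq_neg_iff_add_eq_zero, sub_sub, e]
  abel

variable (P)

/-- The map `d₀`. -/
noncomputable abbrev d₀ : (P × P →₀ ℤ) →ₗ[ℤ] (P →₀ ℤ) := Finsupp.linearCombination ℤ (fun pq : P × P =>
  Finsupp.single (pq.1 + pq.2) 1 - Finsupp.single pq.1 1 - Finsupp.single pq.2 1)

/-- The map `d₁`. -/
noncomputable abbrev d₁ : (P × P × P →₀ ℤ) →ₗ[ℤ] (P × P →₀ ℤ) := Finsupp.linearCombination ℤ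
  (fun t : P × P × P => Finsupp.single (t.1 + t.2.1, t.2.2) 1 - Finsupp.single (t.1, t.2.1 + t.2.2) 1 +
    Finsupp.single (t.1, t.2.1) 1 - Finsupp.single (t.2.1, t.2.2) 1)

/-- The map `d₁'`. -/
noncomputable abbrev d₁' : (P × P →₀ ℤ) →ₗ[ℤ] (P × P →₀ ℤ) := Finsupp.linearCombination ℤ
  (fun pq : P × P => Finsupp.single pq 1 - Finsupp.single (pq.2, pq.1) 1)

/-- The augmentation. -/
noncomputable abbrev ε : (P →₀ ℤ) →ₗ[ℤ] P := Finsupp.linearCombination ℤ (fun p : P => p)

theorem surjective_ε : Function.Surjective (ε P) := fun p =>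
  ⟨Finsupp.single p 1, by simp [ε]⟩

theorem ker_ε : LinearMap.ker (ε P) = LinearMap.range (d₀ P) := by
  refine le_antisymm (fun x hx => ?_) ?_
  · let N := LinearMap.range (d₀ P)
    let s : P →+ ((P →₀ ℤ) ⧸ N) := AddMonoidHom.mk' (fun p => N.mkQ (Finsupp.single p 1)) fun p q => by
      rw [← map_add]
      refine (Submodule.Quotient.eq N).2 ⟨Finsupp.single (p, q) 1, ?_⟩
      simp [d₀]; abel
    have : s.toIntLinearMap ∘ₗ ε P = N.mkQ := Finsupp.lhom_ext' fun p => LinearMap.ext_ring (by
      simp [ε, s])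
    rw [← Submodule.Quotient.mk_eq_zero N]
    have hx' : ε P x = 0 := hx
    exact (LinearMap.congr_fun this x).symm.trans ((congrArg s hx').trans s.map_zero)
  · rw [LinearMap.range_le_ker_iff]
    exact Finsupp.lhom_ext' fun t => LinearMap.ext_ring (by simp [ε, d₀])

theorem ker_d₀ : LinearMap.ker (d₀ P) = LinearMap.range (d₁ P) ⊔ LinearMap.range (d₁' P) := by
  refine le_antisymm (fun x hx => ?_) (sup_le ?_ ?_)
  · let N := LinearMap.range (d₁ P) ⊔ LinearMap.range (d₁' P)
    let f : P → P → ((P × P →₀ ℤ) ⧸ N) := fun p q => N.mkQ (Finsupp.single (p, q) 1)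
    have h : Cocycle f :=
      ⟨fun p q => (Submodule.Quotient.eq N).2 (Submodule.mem_sup_right ⟨Finsupp.single (p, q) 1, by simp [d₁']⟩),
        fun p q r => by
          simp only [f, ← map_add]
          exact (Submodule.Quotient.eq N).2 (Submodule.mem_sup_left ⟨Finsupp.single (p, q, r) 1, by simp [d₁]; abel⟩)⟩
    let L : (P →₀ ℤ) →ₗ[ℤ] Ext' f h := Finsupp.linearCombination ℤ (fun p => (⟨0, p⟩ : Ext' f h))
    have : L ∘ₗ d₀ P = - ((inl : _ →+ Ext' f h).toIntLinearMap ∘ₗ N.mkQ) :=
      Finsupp.lhom_ext' fun t => LinearMap.ext_ring (by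
        show L (d₀ P (Finsupp.single t 1)) = - inl (N.mkQ (Finsupp.single t 1))
        rw [Finsupp.linearCombination_single, one_smul, map_sub, map_sub]
        simp only [L, Finsupp.linearCombination_single, one_smul]
        exact sub_eq (h := h) t.1 t.2)
    have hx' : d₀ P x = 0 := hx
    have h0 : inl (h := h) (N.mkQ x) = 0 := neg_eq_zero.1 ((LinearMap.congr_fun this x).symm.trans
      ((congrArg L hx').trans L.map_zero))
    exact (Submodule.Quotient.mk_eq_zero N).1 (inl_injective (h0.trans (map_zero (inl (h := h))).symm))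
  · rw [LinearMap.range_le_ker_iff]
    exact Finsupp.lhom_ext' fun t => LinearMap.ext_ring (by simp [d₀, d₁, add_assoc]; abel)
  · rw [LinearMap.range_le_ker_iff]
    exact Finsupp.lhom_ext' fun t => LinearMap.ext_ring (by simp [d₀, d₁', add_comm t.1 t.2]; abel)

end Groth.Agent.SymmCocycle
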